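import Cfsg.Agent.H768.Pron.SelfBM
import Cfsg.Agent.H208.SelfCoTwoTh

/-!
# The Sylow 2-subgroups of the Baby Monster are self-normalizing (helper768)
-/

set_option autoImplicit false

universe u

namespace Cfsg.Agent.H768.Pron

open Cfsg Cfsg.Agent.QTNorm

/-- **The Baby Monster.** -/
theorem selfN_b {K : Type u} [Group K] [Finite K] (h : Spor.IsoB K) : SelfN K := by
  have : Finite Spor.Co2 := Cfsg.Agent.Schreier.CoTwoStab.finite
  exact selfN_b_of (Cfsg.Agent.H208.selfN_co2 ⟨MulEquiv.refl _⟩) h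

end Cfsg.Agent.H768.Pron
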