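import Cfsg.Agent.H768.Pron.SelfBM
import Cfsg.Agent.H208.SelfCoOne

/-!
# The Sylow 2-subgroups of the Monster are self-normalizing (helper768)
-/

set_option autoImplicit false

universe u

namespace Cfsg.Agent.H768.Pron

open Cfsg Cfsg.Agent.QTNorm

/-- **The Monster.** -/
theorem selfN_m {K : Type u} [Group K] [Finite K] (h : Spor.IsoM K) : SelfN K :=
  selfN_m_of Cfsg.Agent.H208.SelfCoOne.selfN h

end Cfsg.Agent.H768.Pron
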