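import Cfsg.Agent.H768.Pron.SelfLarge
import Cfsg.Agent.H848.MonsterSetup
import Cfsg.Agent.MonsterU.AmalElts
import Cfsg.Agent.KFacts.Baby.Sheet
import Cfsg.Agent.KFacts.Baby.RowB
import Cfsg.Agent.Schreier.CoTwoStab

/-!
# Self-normalising Sylow 2-subgroups of the Monster and the Baby Monster (S2527-BM, helper768)

`selfN_m_of`, `selfN_b_of`: from the same property of `Co1` and `Co2`.
-/

set_option autoImplicit false

namespace Cfsg.Agent.H768.Pron

open Cfsg Cfsg.Agent.QTNorm Cfsg.Agent.BabyM Cfsg.Agent.BabyM.Model Cfsg.Agent.BabyU.ClosModel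
open Cfsg.Agent.BabyU.ClosLane

universe u

/-- **The Monster.** -/
theorem selfN_m_of (hL : SelfN Spor.Co1) {K : Type u} [Group K] [Finite K] (h : Spor.IsoM K) : SelfN K := by
  obtain ⟨e⟩ := h
  have := Cfsg.Agent.H848.MonsterSetup.finite
  obtain ⟨Q, z, eta, pi, y, τ, h, hy, hf, h1, h2⟩ := Cfsg.Agent.H848.MonsterSetup.exists_setup
  refine SelfN.congr e.symm (selfN_of_large h.large ?_ pi h.pi_surj (fun c hc => (h.pi_eq_one c).1 hc) hL)
  intro hd
  have h3 := (Subgroup.centralizer ({z} : Set Spor.Monster)).card_mul_index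
  rw [Cfsg.Agent.H848.MonsterSetup.card, Cfsg.Agent.MonsterU.AmalElts.card_centralizer h] at h3
  obtain ⟨k, hk⟩ := hd
  rw [hk] at h3
  omega

/-- **The Baby Monster.** -/
theorem selfN_b_of (hL : SelfN Spor.Co2) {K : Type u} [Group K] [Finite K] (h : Spor.IsoB K) : SelfN K := by
  have := A.finite_G
  have hs : IsSimpleGroup Spor.BabyMonster := Cfsg.Agent.KFacts.Baby.RowB.simple_B
  have hK : IsSimpleGroup K := h.some.isSimpleGroup_congr.2 hs
  obtain ⟨e⟩ := KFacts.Baby.Sheet.exists_iso_of_isoB h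
  obtain ⟨π, hπs, hπ⟩ := KFacts.Baby.Inst.quot A
  obtain ⟨f⟩ := Schreier.CoTwoStab.exists_equiv Co2GenStd.l₀ GroupInst.dt_l₀
  have : Finite Spor.Co2 := Schreier.CoTwoStab.finite
  have hK₀ : SelfN GroupInst.K₀ := SelfN.congr f.symm hL
  refine SelfN.congr e (selfN_of_large (KFacts.Baby.Inst.large A) ?_ π hπs (fun c hc => (hπ c).1 hc) hK₀)
  exact (KFacts.Baby.Inst.odd_index A).not_two_dvd_nat

end Cfsg.Agent.H768.Pron
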