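import Cfsg.Agent.H16.NunLarge
import Cfsg.Agent.QTNorm.SporBase

/-!
# Self-normalising Sylow 2-subgroups from a large extraspecial subgroup (S2527, helper768)

`selfN_of_large`: `Q` a large extraspecial subgroup with centre `⟨z⟩`, `C(z)` of odd index, `C(z)/Q` with self-normalising
Sylow 2-subgroups. Then the Sylow 2-subgroups of `G` are self-normalising.
-/

set_option autoImplicit false

namespace Cfsg.Agent.H768.Pron

open Subgroup Cfsg Cfsg.Agent.Co2Type.Quad Cfsg.Agent.KFacts.LargeO2 Cfsg.Agent.QTNorm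

universe u v

variable {G : Type u} [Group G] {Q : Subgroup G} {z : G} {L : Type v} [Group L]

/-- `N(S) = S` from a large extraspecial subgroup. -/
theorem selfN_of_large [Finite G] (h : Large Q z) (hodd : ¬ 2 ∣ (centralizer ({z} : Set G)).index)
    (π : centralizer ({z} : Set G) →* L) (hs : Function.Surjective π) (hk : ∀ c, π c = 1 → (c : G) ∈ Q)
    (hL : SelfN L) : SelfN G := by
  have hp2 : Fact (Nat.Prime 2) := ⟨Nat.prime_two⟩
  have hQ2 := H16.NunLarge.isPGroup_Q h
  obtain ⟨S, hS1, hS2⟩ := H16.NunLarge.exists_sylow_between hodd hQ2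
    (fun w hw => mem_centralizer_singleton_iff.2 (h.comm_z w hw))
  have hSc : ∀ x ∈ (S : Subgroup G), x * z = z * x := fun x hx => mem_centralizer_singleton_iff.1 (hS2 hx)
  have hzS : z ∈ (S : Subgroup G) := hS1 h.z_mem
  have hZ : ∀ t ∈ (S : Subgroup G), (∀ x ∈ (S : Subgroup G), x * t = t * x) → t = 1 ∨ t = z := by
    intro t _ ht
    have htz := (ht z hzS).symm
    have htQ : ∀ x ∈ Q, t * x = x * t := fun x hx => (ht x (hS1 hx)).symm
    exact h.cent t (h.self t htz htQ) htQ
  have hSz : normalizer ((S : Subgroup G) : Set G) ≤ centralizer ({z} : Set G) :=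
    UniqSheet.normalizer_le_centralizer h.z_ne hzS hSc hZ
  refine SelfN.of_one S (self_of_hom S _ hSz π hs (fun c hc => ?_) hL)
  obtain ⟨k, hk'⟩ := hQ2 ⟨(c : G), hk c hc⟩
  have h2 : (c : G) ^ 2 ^ k = 1 := congrArg Subtype.val hk'
  exact ⟨k, Subtype.ext h2⟩

end Cfsg.Agent.H768.Pron
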